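import Groth.Agent.EGA4Lib.DepthFlat

/-!
# `depth_I N ≥ depth_I (N/mN)` for flat `N`
-/

universe u

open IsLocalRing TensorProduct
open scoped Pointwise

namespace Groth.Agent.LocCoh.FlatFibre

variable {R S : Type u} [CommRing R] [CommRing S] [IsLocalRing R] [IsLocalRing S]
  [IsNoetherianRing R] [IsNoetherianRing S] [Algebra R S] [IsLocalHom (algebraMap R S)]

omit [IsLocalRing S] [IsNoetherianRing S] [IsLocalRing R] [IsNoetherianRing R] [Algebra R S]
  [IsLocalHom (algebraMap R S)] in
theorem nonempty_fibre_quot {N : Type u} [AddCommGroup N] [Module S N] (J : Ideal S) (y : S) :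
    Nonempty (QuotSMulTop y (N ⧸ J • (⊤ : Submodule S N)) ≃ₗ[S]
      (QuotSMulTop y N ⧸ J • (⊤ : Submodule S (QuotSMulTop y N)))) := by
  have h1 : (J • (⊤ : Submodule S (QuotSMulTop y N))) =
      (J • (⊤ : Submodule S N)).map (y • (⊤ : Submodule S N)).mkQ := by
    rw [Submodule.map_smul'', Submodule.map_top, Submodule.range_mkQ]
  have h2 : (y • (⊤ : Submodule S (N ⧸ J • (⊤ : Submodule S N)))) =
      (y • (⊤ : Submodule S N)).map (J • (⊤ : Submodule S N)).mkQ := by
    rw [Submodule.map_pointwise_smul, Submodule.map_top, Submodule.range_mkQ]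
  exact ⟨(Submodule.quotEquivOfEq _ _ h2).trans
    ((Submodule.quotientQuotientEquivQuotientSup _ _).trans
      ((Submodule.quotEquivOfEq _ _ (sup_comm _ _)).trans
        ((Submodule.quotientQuotientEquivQuotientSup _ _).symm.trans
          (Submodule.quotEquivOfEq _ _ h1.symm))))⟩

omit [IsNoetherianRing R] in
theorem le_idealDepth {I : Ideal S} : ∀ (k : ℕ) (N : Type u) [AddCommGroup N]
    [Module S N] [Module R N] [IsScalarTower R S N] [Module.Finite S N] [Module.Flat R N],
    (k : ℕ∞) ≤ LocCoh.idealDepth I (N ⧸ (maximalIdeal R).map (algebraMap R S) • (⊤ : Submodule S N)) →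
      (k : ℕ∞) ≤ LocCoh.idealDepth I N := by
  intro k
  induction k with
  | zero => intro N _ _ _ _ _ _ _; simp
  | succ k ih =>
    intro N _ _ _ _ _ _ hN
    obtain ⟨y, hy, hreg⟩ := Depth.exists_isSMulRegular_of_one_le_idealDepth (I := I)
      (M := N ⧸ (maximalIdeal R).map (algebraMap R S) • (⊤ : Submodule S N))
      (le_trans (by exact_mod_cast Nat.succ_pos k) hN)
    obtain ⟨hT, hflat⟩ := EGA4Lib.isSMulRegular_of_fibre (M := R) hreg
    have hyN : IsSMulRegular N y := ((AlgebraTensorModule.rid R S N).isSMulRegular_congr y).mp hT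
    rw [← Depth.le_idealDepth_quotSMulTop_iff hy hreg] at hN
    rw [← Depth.le_idealDepth_quotSMulTop_iff hy hyN]
    obtain ⟨e⟩ := nonempty_fibre_quot (N := N) ((maximalIdeal R).map (algebraMap R S)) y
    rw [Depth.idealDepth_congr e] at hN
    exact ih (QuotSMulTop y N) hN

end Groth.Agent.LocCoh.FlatFibre
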