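import Groth.Agent.EGA4Lib.SkFibers
import Groth.Agent.RegLoc.Completion
import Mathlib.RingTheory.AdicCompletion.AsTensorProduct
import Mathlib.RingTheory.AdicCompletion.Algebra
import Mathlib.RingTheory.AdicCompletion.Completeness

/-!
# Depth in an adic completion at a prime minimal in its fibre
-/

universe u

open IsLocalRing TensorProduct

namespace Groth.Agent.LocCoh.FlatFibre

variable {R : Type u} [CommRing R] [IsNoetherianRing R] [IsLocalRing R]

theorem faithfullyFlat_adicCompletion (I : Ideal R) (hI : I ≠ ⊤) :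
    Module.FaithfullyFlat R (AdicCompletion I R) where
  toFlat := AdicCompletion.flat_of_isNoetherian I
  submodule_ne_top {m} hm h := by
    obtain rfl := IsLocalRing.eq_maximalIdeal hm
    have hle : I ^ 1 ≤ maximalIdeal R := (pow_one I).le.trans (IsLocalRing.le_maximalIdeal hI)
    let g : AdicCompletion I R →ₗ[R] R ⧸ maximalIdeal R :=
      (Ideal.Quotient.factorₐ R hle).toLinearMap ∘ₗ (AdicCompletion.evalₐ I 1).toLinearMap
    have h0 : ∀ x ∈ maximalIdeal R • (⊤ : Submodule R (AdicCompletion I R)), g x = 0 := by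
      intro x hx
      refine Submodule.smul_induction_on hx (fun r hr y _ => ?_) fun y z hy hz => by rw [map_add, hy, hz, add_zero]
      rw [map_smul]
      obtain ⟨t, ht⟩ := Ideal.Quotient.mk_surjective (g y)
      rw [← ht]
      exact Ideal.Quotient.eq_zero_iff_mem.mpr (Ideal.mul_mem_right t _ hr)
    have := h0 1 (h.symm ▸ Submodule.mem_top)
    simp [g] at this

theorem exists_prime_depth_eq (I : Ideal R) (hI : I ≠ ⊤) (M : Type u) [AddCommGroup M] [Module R M]
    [Module.Finite R M] (p : Ideal R) [p.IsPrime] :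
    ∃ x : PrimeSpectrum (AdicCompletion I R), x.asIdeal.comap (algebraMap R (AdicCompletion I R)) = p ∧
      LocCoh.depth (Localization.AtPrime x.asIdeal)
          (LocalizedModule x.asIdeal.primeCompl (AdicCompletion I M)) =
        LocCoh.depth (Localization.AtPrime p) (LocalizedModule p.primeCompl M) := by
  have := faithfullyFlat_adicCompletion I hI
  have : IsNoetherianRing (AdicCompletion I R) := RegLoc.Completion.isNoetherianRing_adicCompletion' I
  obtain ⟨x, hx, -, hd0⟩ := EGA4Lib.exists_minimal_over R p
    ((PrimeSpectrum.comap_surjective_of_faithfullyFlat (A := R) (B := AdicCompletion I R) ⟨p, ‹_›⟩).imp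
      fun y hy => congrArg PrimeSpectrum.asIdeal hy)
  subst hx
  refine ⟨x, rfl, ?_⟩
  obtain ⟨h, -⟩ := EGA4Lib.depth_supportDim_stalk R x.asIdeal M (AdicCompletion I R)
  rw [hd0, add_zero] at h
  rw [← h]
  exact ((EGA4Lib.depth_supportDim_congr (L := Localization.AtPrime x.asIdeal)
    (IsLocalizedModule.mapEquiv x.asIdeal.primeCompl (LocalizedModule.mkLinearMap _ _)
      (LocalizedModule.mkLinearMap _ _) (Localization.AtPrime x.asIdeal)
      (AdicCompletion.ofTensorProductEquivOfFiniteNoetherian I M))).1).symm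

theorem isMaximal_of_forall (I : Ideal R) (Q : Ideal (AdicCompletion I R)) [Q.IsPrime]
    (hIQ : I.map (algebraMap R (AdicCompletion I R)) ≤ Q)
    (hQ : Q.comap (algebraMap R (AdicCompletion I R)) = maximalIdeal R) : Q.IsMaximal := by
  let g := (AdicCompletion.evalOneₐ I).toRingHom
  have hker : RingHom.ker g ≤ Q := (AdicCompletion.ker_evalOneₐ_eq_map (I := I) (IsNoetherian.noetherian I)).le.trans hIQ
  have hg : Function.Surjective g := AdicCompletion.evalOneₐ_surjective I
  have h1 : (Q.map g).comap g = Q := by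
    rw [Ideal.comap_map_of_surjective g hg, ← RingHom.ker_eq_comap_bot, sup_eq_left.mpr hker]
  have h2 : (Q.map g).comap (Ideal.Quotient.mk I) = maximalIdeal R := by
    rw [← hQ, show Ideal.Quotient.mk I = g.comp (algebraMap R (AdicCompletion I R)) from
      RingHom.ext fun r => ((AdicCompletion.evalOneₐ I).commutes r).symm, ← Ideal.comap_comap, h1]
  have hne : Q.map g ≠ ⊤ := fun h => (Ideal.IsPrime.ne_top ‹Q.IsPrime›) (by rw [← h1, h, Ideal.comap_top])
  have : (Q.map g).IsMaximal := by
    rcases Ideal.map_eq_top_or_isMaximal_of_surjective (Ideal.Quotient.mk I) Ideal.Quotient.mk_surjective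
      (maximalIdeal.isMaximal R) with h | h
    · exact absurd (by rw [← h, ← h2, Ideal.map_comap_of_surjective _ Ideal.Quotient.mk_surjective]) hne
    · rwa [← h2, Ideal.map_comap_of_surjective _ Ideal.Quotient.mk_surjective] at h
  rw [← h1]
  exact Ideal.comap_isMaximal_of_surjective g hg

end Groth.Agent.LocCoh.FlatFibre
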